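import Cfsg.Agent.Lib.CoprimeFix.LieTypeOther
import Cfsg.Agent.Lib.CoprimeFix.ClassicalSU

/-!
Split `(B, N)`-pairs of the groups in `IsPSUChar`.
-/

set_option autoImplicit false

namespace CfsgLib.CoprimeFix

theorem hasSplit_psu {p : ℕ} [Fact p.Prime] {G : Type*} [Group G] (h : Cfsg.IsPSUChar p G) :
    HasSplit p G := by
  obtain ⟨F, _, _, _, n, q, hF, hn, -, he⟩ := h
  exact .of_iso he (UnitaryBN.exists_splitHyp hF hn p)

end CfsgLib.CoprimeFix
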