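import Cfsg.Agent.Lib.CoprimeFix.LieTypeOther
import Cfsg.Agent.Lib.CoprimeFix.ClassicalSp

/-!
Split `(B, N)`-pairs of the groups in `IsPSpChar`.
-/

set_option autoImplicit false

namespace CfsgLib.CoprimeFix

theorem hasSplit_psp {p : ℕ} [Fact p.Prime] {G : Type*} [Group G] (h : Cfsg.IsPSpChar p G) :
    HasSplit p G := by
  obtain ⟨F, _, _, _, m, hm, -, he⟩ := h
  obtain ⟨P, U, hs, -⟩ := ClassicalSp.exists_splitHyp (F := F) (m := m) hm p
  exact .of_iso he ⟨P, U, hs⟩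

end CfsgLib.CoprimeFix
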