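import Cfsg.Agent.Lib.CoprimeFix.LieTypeOther
import Cfsg.Agent.Lib.CoprimeFix.LieTypePSL
import Cfsg.Agent.Lib.CoprimeFix.LieTypePSp
import Cfsg.Agent.Lib.CoprimeFix.LieTypePSU

/-!
Every group of Lie type in characteristic `p` has a split `(B, N)`-pair.
-/

set_option autoImplicit false

namespace CfsgLib.CoprimeFix

theorem hasSplit_lieType {p : ℕ} [Fact p.Prime] {G : Type*} [Group G] (h : Cfsg.IsLieTypeChar p G) :
    HasSplit p G :=
  hasSplit_of_isLieTypeChar hasSplit_psl hasSplit_psp hasSplit_psu h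

end CfsgLib.CoprimeFix
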